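import Mathlib

/-!
The ideal of finitely many points of the projective plane lying on a curve of degree `d` is
generated by at most `d + 1` elements.
-/

open MvPolynomial

namespace Groth.Agent.PlanePoints

universe u v

variable {k : Type u} [Field k]

/-- The homogeneous ideal of the points `Z`, as a set. -/
def InI (Z : Finset (Fin 3 → k)) (f : MvPolynomial (Fin 3) k) : Prop :=
  ∀ p ∈ Z, ∀ j : ℕ, eval p (homogeneousComponent j f) = 0

lemma inI_iff_of_homogeneous {Z : Finset (Fin 3 → k)} {f : MvPolynomial (Fin 3) k} {n : ℕ}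
    (hf : f.IsHomogeneous n) : InI Z f ↔ ∀ p ∈ Z, eval p f = 0 := by
  constructor
  · intro h p hp
    have := h p hp n
    rwa [homogeneousComponent_eq_self hf] at this
  · intro h p hp j
    rw [homogeneousComponent_of_mem ((mem_homogeneousSubmodule n f).2 hf)]
    split_ifs
    · exact h p hp
    · exact map_zero _

lemma inI_component {Z : Finset (Fin 3 → k)} {f : MvPolynomial (Fin 3) k} (hf : InI Z f) (n : ℕ) :
    InI Z (homogeneousComponent n f) :=
  (inI_iff_of_homogeneous (homogeneousComponent_isHomogeneous (φ := f) (n := n))).2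
    fun p hp => hf p hp n

/-- The exponent `(i, j, 0)`. -/
noncomputable def e2 (i j : ℕ) : Fin 3 →₀ ℕ := Finsupp.single 0 i + Finsupp.single 1 j

@[simp] lemma e2_zero (i j : ℕ) : e2 i j 0 = i := by simp [e2]
@[simp] lemma e2_one (i j : ℕ) : e2 i j 1 = j := by simp [e2]
@[simp] lemma e2_two (i j : ℕ) : e2 i j 2 = 0 := by simp [e2]

lemma eq_e2 {m : Fin 3 →₀ ℕ} (h : m 2 = 0) : m = e2 (m 0) (m 1) := by
  ext l; fin_cases l <;> simp [h]

lemma degree_eq (m : Fin 3 →₀ ℕ) : m.degree = m 0 + m 1 + m 2 := by
  rw [Finsupp.degree_eq_sum, Fin.sum_univ_three]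

/-- `h` is homogeneous, vanishes on `Z` and its restriction to `x₂ = 0` has top monomial
`x₀ ^ i x₁ ^ j`. -/
def Top (Z : Finset (Fin 3 → k)) (i j : ℕ) (h : MvPolynomial (Fin 3) k) : Prop :=
  h.IsHomogeneous (i + j) ∧ InI Z h ∧ coeff (e2 i j) h ≠ 0 ∧
    ∀ i' j', i' + j' = i + j → i < i' → coeff (e2 i' j') h = 0

lemma exists_top_of_coeff_ne_zero {Z : Finset (Fin 3 → k)} {h : MvPolynomial (Fin 3) k} {n : ℕ}
    (hh : h.IsHomogeneous n) (hI : InI Z h) (hne : ∃ i, i ≤ n ∧ coeff (e2 i (n - i)) h ≠ 0) :
    ∃ i j, i + j = n ∧ Top Z i j h := by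
  classical
  obtain ⟨i₀, hi₀, hc₀⟩ := hne
  let i := Nat.findGreatest (fun i => coeff (e2 i (n - i)) h ≠ 0) n
  have hi : i ≤ n := Nat.findGreatest_le n
  have hc : coeff (e2 i (n - i)) h ≠ 0 :=
    Nat.findGreatest_spec (P := fun i => coeff (e2 i (n - i)) h ≠ 0) hi₀ hc₀
  refine ⟨i, n - i, by omega, by rwa [show i + (n - i) = n by omega], hI, hc, fun i' j' he hlt => ?_⟩
  rw [show j' = n - i' by omega]
  by_contra hne
  exact Nat.findGreatest_is_greatest hlt (by omega) hne

lemma X_two_dvd {h : MvPolynomial (Fin 3) k}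
    (h0 : ∀ m : Fin 3 →₀ ℕ, m 2 = 0 → coeff m h = 0) : ∃ h', h = X 2 * h' := by
  have hmod : h.modMonomial (Finsupp.single 2 1) = 0 := by
    refine MvPolynomial.ext _ _ fun m => ?_
    by_cases hm : Finsupp.single 2 1 ≤ m
    · rw [coeff_modMonomial_of_le _ hm, coeff_zero]
    · rw [coeff_modMonomial_of_not_le _ hm, coeff_zero]
      exact h0 m (by rw [Finsupp.single_le_iff] at hm; omega)
  exact X_dvd_iff_modMonomial_eq_zero.2 hmod

lemma homogeneous_of_X_mul {h' : MvPolynomial (Fin 3) k} {n : ℕ}
    (h : (X 2 * h' : MvPolynomial (Fin 3) k).IsHomogeneous (n + 1)) : h'.IsHomogeneous n := by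
  intro m hm
  have h1 : coeff (m + Finsupp.single 2 1) (X 2 * h') ≠ 0 := by
    rwa [add_comm, coeff_X_mul]
  have h2 := h h1
  rw [map_add, Finsupp.weight_single] at h2
  simpa using h2

/-- Generators when the line `x₂ = 0` misses all the points. -/
theorem exists_generators (Z : Finset (Fin 3 → k)) (hZ : ∀ p ∈ Z, p 2 ≠ 0) (d : ℕ)
    (f : MvPolynomial (Fin 3) k) (hf : f.IsHomogeneous d) (hf0 : f ≠ 0) (hfI : InI Z f) :
    ∃ G : Finset (MvPolynomial (Fin 3) k), G.card ≤ d + 1 ∧ (∀ g ∈ G, InI Z g) ∧
      ∀ h : MvPolynomial (Fin 3) k, InI Z h → h ∈ Ideal.span (G : Set (MvPolynomial (Fin 3) k)) := by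
  classical
  have hdiv : ∀ (h' : MvPolynomial (Fin 3) k) (n : ℕ), (X 2 * h').IsHomogeneous (n + 1) →
      InI Z (X 2 * h') → h'.IsHomogeneous n ∧ InI Z h' := by
    intro h' n hh hI
    have h1 := homogeneous_of_X_mul hh
    refine ⟨h1, (inI_iff_of_homogeneous h1).2 fun p hp => ?_⟩
    have := (inI_iff_of_homogeneous hh).1 hI p hp
    rw [map_mul, eval_X] at this
    exact (mul_eq_zero.1 this).resolve_left (hZ p hp)
  -- a curve not containing the line
  obtain ⟨a, b, hab, F, hF⟩ : ∃ a b, a + b ≤ d ∧ ∃ F, Top Z a b F := by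
    induction d generalizing f with
    | zero =>
      have hc : coeff (e2 0 0) f ≠ 0 := by
        obtain ⟨m, hm⟩ := ne_zero_iff.1 hf0
        have hdeg : m.degree = 0 := by
          by_contra hne; exact hm (hf.coeff_eq_zero hne)
        rw [Finsupp.degree_eq_zero_iff] at hdeg
        simpa [e2, hdeg] using hm
      obtain ⟨a, b, he, ht⟩ := exists_top_of_coeff_ne_zero hf hfI ⟨0, le_rfl, hc⟩
      exact ⟨a, b, he.le, f, ht⟩
    | succ d ih =>
      by_cases hne : ∃ i, i ≤ d + 1 ∧ coeff (e2 i (d + 1 - i)) f ≠ 0
      · obtain ⟨a, b, he, ht⟩ := exists_top_of_coeff_ne_zero hf hfI hne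
        exact ⟨a, b, he.le, f, ht⟩
      · push Not at hne
        obtain ⟨f', rfl⟩ := X_two_dvd (h := f) fun m hm => by
          by_cases hdeg : m.degree = d + 1
          · rw [degree_eq, hm, add_zero] at hdeg
            rw [eq_e2 hm, show m 1 = d + 1 - m 0 by omega]
            exact hne _ (by omega)
          · exact hf.coeff_eq_zero hdeg
        obtain ⟨h1, h2⟩ := hdiv f' d hf hfI
        obtain ⟨a, b, he, F, hF⟩ := ih f' h1 (right_ne_zero_of_mul hf0) h2
        exact ⟨a, b, he.trans (Nat.le_succ d), F, hF⟩
  -- one element for each column left of `a` and each row below `b`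
  let col : ℕ → Option (MvPolynomial (Fin 3) k) := fun i =>
    if h : ∃ j, ∃ g, Top Z i j g then some (Nat.find_spec h).choose else none
  let row : ℕ → Option (MvPolynomial (Fin 3) k) := fun j =>
    if h : ∃ i, ∃ g, Top Z i j g then some (Nat.find_spec h).choose else none
  let G : Finset (MvPolynomial (Fin 3) k) :=
    insert F ((Finset.range a).biUnion (fun i => (col i).toFinset) ∪
      (Finset.range b).biUnion (fun j => (row j).toFinset))
  have hopt : ∀ o : Option (MvPolynomial (Fin 3) k), o.toFinset.card ≤ 1 := fun o => by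
    cases o <;> simp
  refine ⟨G, ?_, ?_, ?_⟩
  · refine (Finset.card_insert_le _ _).trans ?_
    have h1 := Finset.card_union_le ((Finset.range a).biUnion (fun i => (col i).toFinset))
      ((Finset.range b).biUnion (fun j => (row j).toFinset))
    have h2 : ((Finset.range a).biUnion (fun i => (col i).toFinset)).card ≤ a :=
      Finset.card_biUnion_le.trans ((Finset.sum_le_card_nsmul _ _ 1 fun i _ => hopt _).trans (by simp))
    have h3 : ((Finset.range b).biUnion (fun j => (row j).toFinset)).card ≤ b :=
      Finset.card_biUnion_le.trans ((Finset.sum_le_card_nsmul _ _ 1 fun i _ => hopt _).trans (by simp))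
    omega
  · intro g hg
    simp only [G, Finset.mem_insert, Finset.mem_union, Finset.mem_biUnion, Option.mem_toFinset,
      Option.mem_def, col, row] at hg
    rcases hg with rfl | ⟨i, -, hg⟩ | ⟨j, -, hg⟩
    · exact hF.2.1
    · split_ifs at hg with h
      cases hg
      exact (Nat.find_spec h).choose_spec.2.1
    · split_ifs at hg with h
      cases hg
      exact (Nat.find_spec h).choose_spec.2.1
  -- every top monomial is a multiple of that of a generator
  have hstair : ∀ i j (g : MvPolynomial (Fin 3) k), Top Z i j g →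
      ∃ i₀ j₀ g₀, g₀ ∈ G ∧ Top Z i₀ j₀ g₀ ∧ i₀ ≤ i ∧ j₀ ≤ j := by
    intro i j g hg
    by_cases hi : i < a
    · have h : ∃ j, ∃ g, Top Z i j g := ⟨j, g, hg⟩
      refine ⟨i, Nat.find h, (Nat.find_spec h).choose, ?_, (Nat.find_spec h).choose_spec, le_rfl,
        Nat.find_min' h ⟨g, hg⟩⟩
      exact Finset.mem_insert_of_mem (Finset.mem_union_left _ (Finset.mem_biUnion.2
        ⟨i, Finset.mem_range.2 hi, by simp only [col, dif_pos h]; simp⟩))
    by_cases hj : j < b
    · have h : ∃ i, ∃ g, Top Z i j g := ⟨i, g, hg⟩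
      refine ⟨Nat.find h, j, (Nat.find_spec h).choose, ?_, (Nat.find_spec h).choose_spec,
        Nat.find_min' h ⟨g, hg⟩, le_rfl⟩
      exact Finset.mem_insert_of_mem (Finset.mem_union_right _ (Finset.mem_biUnion.2
        ⟨j, Finset.mem_range.2 hj, by simp only [row, dif_pos h]; simp⟩))
    exact ⟨a, b, F, Finset.mem_insert_self _ _, hF, by omega, by omega⟩
  -- reduction
  have hom : ∀ n (h : MvPolynomial (Fin 3) k), h.IsHomogeneous n → InI Z h →
      h ∈ Ideal.span (G : Set (MvPolynomial (Fin 3) k)) := by
    intro n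
    induction n using Nat.strong_induction_on with
    | _ n ihn =>
      suffices key : ∀ B (h : MvPolynomial (Fin 3) k), h.IsHomogeneous n → InI Z h →
          (∀ i j, i + j = n → B ≤ i → coeff (e2 i j) h = 0) →
          h ∈ Ideal.span (G : Set (MvPolynomial (Fin 3) k)) from
        fun h hh hI => key (n + 1) h hh hI fun i j he hB => absurd hB (by omega)
      intro B
      induction B with
      | zero =>
        intro h hh hI hz
        have h0 : ∀ m : Fin 3 →₀ ℕ, m 2 = 0 → coeff m h = 0 := by
          intro m hm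
          by_cases hdeg : m.degree = n
          · rw [degree_eq, hm, add_zero] at hdeg
            rw [eq_e2 hm]
            exact hz _ _ hdeg (Nat.zero_le _)
          · exact hh.coeff_eq_zero hdeg
        obtain ⟨h', rfl⟩ := X_two_dvd h0
        rcases Nat.eq_zero_or_pos n with rfl | hn
        · by_cases hx : h' = 0
          · simp [hx]
          · have h1 := hh.totalDegree (mul_ne_zero (X_ne_zero _) hx)
            rw [totalDegree_mul_of_isDomain (X_ne_zero _) hx, totalDegree_X] at h1
            omega
        · obtain ⟨n, rfl⟩ : ∃ n', n = n' + 1 := ⟨n - 1, by omega⟩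
          obtain ⟨h1, h2⟩ := hdiv h' n hh hI
          exact Ideal.mul_mem_left _ _ (ihn n (Nat.lt_succ_self n) h' h1 h2)
      | succ B ihB =>
        intro h hh hI hz
        by_cases hB : B ≤ n ∧ coeff (e2 B (n - B)) h ≠ 0
        · obtain ⟨hBn, hc⟩ := hB
          have htop : Top Z B (n - B) h := ⟨by rwa [show B + (n - B) = n by omega], hI, hc,
            fun i' j' he hlt => hz i' j' (by omega) hlt⟩
          obtain ⟨i₀, j₀, g₀, hg₀, ⟨hg1, hg2, hg3, hg4⟩, hi, hj⟩ := hstair _ _ h htop
          let s : Fin 3 →₀ ℕ := e2 (B - i₀) (n - B - j₀)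
          let c : k := coeff (e2 B (n - B)) h / coeff (e2 i₀ j₀) g₀
          let q : MvPolynomial (Fin 3) k := monomial s c * g₀
          have hq : q.IsHomogeneous n := by
            have hs : s.degree = B - i₀ + (n - B - j₀) := by simp [s, degree_eq]
            have := (isHomogeneous_monomial c hs).mul hg1
            rwa [show B - i₀ + (n - B - j₀) + (i₀ + j₀) = n by omega] at this
          have hqI : InI Z q := (inI_iff_of_homogeneous hq).2 fun p hp => by
            simp only [q, map_mul]
            rw [(inI_iff_of_homogeneous hg1).1 hg2 p hp, mul_zero]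
          have hshift : ∀ i j, s + e2 i j = e2 (B - i₀ + i) (n - B - j₀ + j) := by
            intro i j
            ext l; fin_cases l <;> simp [s]
          have hqc : coeff (e2 B (n - B)) q = coeff (e2 B (n - B)) h := by
            have e : e2 B (n - B) = s + e2 i₀ j₀ := by
              rw [hshift, show B - i₀ + i₀ = B by omega, show n - B - j₀ + j₀ = n - B by omega]
            have h1 : coeff (e2 B (n - B)) q = c * coeff (e2 i₀ j₀) g₀ :=
              (congrArg (fun m => coeff m q) e).trans (coeff_monomial_mul _ _ _ _)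
            exact h1.trans (div_mul_cancel₀ _ hg3)
          have hqz : ∀ i j, i + j = n → B < i → coeff (e2 i j) q = 0 := by
            intro i j he hlt
            simp only [q]
            rw [coeff_monomial_mul']
            split_ifs with hle
            · have h0 := hle 0
              have h1 := hle 1
              simp only [s, e2_zero, e2_one] at h0 h1
              have e : e2 i j - s = e2 (i - (B - i₀)) (j - (n - B - j₀)) := by
                ext l; fin_cases l <;> simp [s]
              rw [e, hg4 _ _ (by omega) (by omega), mul_zero]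
            · rfl
          have hsub : h - q ∈ Ideal.span (G : Set (MvPolynomial (Fin 3) k)) := by
            refine ihB (h - q) (hh.sub hq) ((inI_iff_of_homogeneous (hh.sub hq)).2 fun p hp => by
              rw [map_sub, (inI_iff_of_homogeneous hh).1 hI p hp,
                (inI_iff_of_homogeneous hq).1 hqI p hp, sub_zero]) fun i j he hBi => ?_
            rw [coeff_sub]
            rcases Nat.eq_or_lt_of_le hBi with rfl | hlt
            · rw [show j = n - B by omega, hqc, sub_self]
            · rw [hz i j he hlt, hqz i j he hlt, sub_zero]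
          have hqG : q ∈ Ideal.span (G : Set (MvPolynomial (Fin 3) k)) :=
            Ideal.mul_mem_left _ _ (Ideal.subset_span hg₀)
          simpa using Ideal.add_mem _ hsub hqG
        · refine ihB h hh hI fun i j he hBi => ?_
          rcases Nat.eq_or_lt_of_le hBi with rfl | hlt
          · rw [show j = n - B by omega]
            by_contra hne
            exact hB ⟨by omega, hne⟩
          · exact hz i j he hlt
  intro h hI
  rw [← sum_homogeneousComponent h]
  exact Ideal.sum_mem _ fun n _ =>
    hom n _ (homogeneousComponent_isHomogeneous (φ := h) (n := n)) (inI_component hI n)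

end Groth.Agent.PlanePoints
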