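import Groth.Agent.PlanePoints.Basic

/-!
Change of coordinates and of the ground field for the ideal of a finite set of points.
-/

open MvPolynomial

namespace Groth.Agent.PlanePoints

universe u v

variable {k : Type u} [Field k]

lemma homogeneousComponent_aeval_linear (L : Fin 3 → MvPolynomial (Fin 3) k)
    (hL : ∀ i, (L i).IsHomogeneous 1) (j : ℕ) (h : MvPolynomial (Fin 3) k) :
    homogeneousComponent j (aeval L h) = aeval L (homogeneousComponent j h) := by
  conv_lhs => rw [← sum_homogeneousComponent h]
  rw [map_sum, map_sum]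
  have h1 : ∀ n, homogeneousComponent j (aeval L (homogeneousComponent n h)) =
      if j = n then aeval L (homogeneousComponent n h) else 0 := fun n => by
    refine homogeneousComponent_of_mem ((mem_homogeneousSubmodule n _).2 ?_)
    have := (homogeneousComponent_isHomogeneous (φ := h) (n := n)).aeval L hL
    rwa [one_mul] at this
  simp only [h1, Finset.sum_ite_eq, Finset.mem_range]
  split_ifs with hj
  · rfl
  · rw [homogeneousComponent_eq_zero j h (by omega), map_zero]

/-- The substitution given by a matrix. -/
noncomputable def subM (M : Matrix (Fin 3) (Fin 3) k) :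
    MvPolynomial (Fin 3) k →ₐ[k] MvPolynomial (Fin 3) k :=
  aeval fun i => ∑ j, C (M i j) * X j

lemma linear_subM (M : Matrix (Fin 3) (Fin 3) k) (i : Fin 3) :
    (∑ j, C (M i j) * X j : MvPolynomial (Fin 3) k).IsHomogeneous 1 :=
  IsHomogeneous.sum _ _ _ fun j _ => isHomogeneous_C_mul_X (M i j) j

lemma eval_subM (M : Matrix (Fin 3) (Fin 3) k) (p : Fin 3 → k) (h : MvPolynomial (Fin 3) k) :
    eval p (subM M h) = eval (M.mulVec p) h := by
  have : (aeval p).comp (subM M) = aeval (M.mulVec p) := algHom_ext fun i => by
    simp [subM, Matrix.mulVec, dotProduct]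
  simpa [aeval_eq_eval] using AlgHom.congr_fun this h

lemma inI_subM (M : Matrix (Fin 3) (Fin 3) k) (Z : Finset (Fin 3 → k)) [DecidableEq (Fin 3 → k)]
    (h : MvPolynomial (Fin 3) k) : InI Z (subM M h) ↔ InI (Z.image M.mulVec) h := by
  simp only [InI, Finset.forall_mem_image]
  refine forall₂_congr fun p _ => forall_congr' fun j => ?_
  rw [show homogeneousComponent j (subM M h) = subM M (homogeneousComponent j h) from
    homogeneousComponent_aeval_linear _ (linear_subM M) j h, eval_subM]

lemma subM_subM (M N : Matrix (Fin 3) (Fin 3) k) (h : MvPolynomial (Fin 3) k) :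
    subM M (subM N h) = subM (N * M) h := by
  have : (subM M).comp (subM N) = subM (N * M) := algHom_ext fun i => by
    simp only [subM, AlgHom.comp_apply, aeval_X, map_sum, map_mul, aeval_C, algebraMap_eq,
      Finset.mul_sum, Matrix.mul_apply, Finset.sum_mul]
    rw [Finset.sum_comm]
    simp [mul_assoc]
  exact AlgHom.congr_fun this h

lemma subM_one (h : MvPolynomial (Fin 3) k) : subM 1 h = h := by
  have : subM (1 : Matrix (Fin 3) (Fin 3) k) = AlgHom.id k _ := algHom_ext fun i => by
    simp [subM, Matrix.one_apply]
  rw [this]; rfl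

/-- Generators over an infinite field. -/
theorem exists_generators_of_infinite [Infinite k] (Z : Finset (Fin 3 → k))
    (hZ : ∀ p ∈ Z, p ≠ 0) (d : ℕ) (f : MvPolynomial (Fin 3) k) (hf : f.IsHomogeneous d) (hf0 : f ≠ 0)
    (hfI : InI Z f) :
    ∃ G : Finset (MvPolynomial (Fin 3) k), G.card ≤ d + 1 ∧ (∀ g ∈ G, InI Z g) ∧
      ∀ h : MvPolynomial (Fin 3) k, InI Z h → h ∈ Ideal.span (G : Set (MvPolynomial (Fin 3) k)) := by
  classical
  let W : (Fin 3 → k) → Submodule k (Fin 3 → k) := fun p =>
    LinearMap.ker (Fintype.linearCombination k p)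
  let s : Finset (Submodule k (Fin 3 → k)) := insert ⊥ (Z.image W)
  have hs : (⊤ : Submodule k (Fin 3 → k)) ∉ s := by
    intro h
    rcases Finset.mem_insert.1 h with h | h
    · exact bot_ne_top h.symm
    · obtain ⟨p, hp, hpe⟩ := Finset.mem_image.1 h
      apply hZ p hp
      funext i
      have h1 : (Pi.single i (1 : k)) ∈ W p := hpe ▸ Submodule.mem_top
      simpa [W, Fintype.linearCombination_apply_single] using h1
  obtain ⟨v, hv⟩ := (Set.ne_univ_iff_exists_notMem _).1 (Subspace.biUnion_ne_univ_of_top_notMem hs)
  simp only [Set.mem_iUnion, SetLike.mem_coe, exists_prop, not_exists, not_and] at hv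
  obtain ⟨l, hl⟩ : ∃ l, v l ≠ 0 := by
    by_contra! h
    exact hv ⊥ (Finset.mem_insert_self _ _) ((Submodule.mem_bot k).2 (funext h))
  let M : Matrix (Fin 3) (Fin 3) k :=
    ((1 : Matrix (Fin 3) (Fin 3) k).updateRow l v).submatrix (Equiv.swap l 2) id
  have hrow : ∀ x, M.mulVec x 2 = ∑ j, x j * v j := fun x => by
    simp [M, Matrix.mulVec, dotProduct, mul_comm]
  have hM : IsUnit M.det := by
    rw [← Matrix.isUnit_iff_isUnit_det, ← Matrix.mulVec_injective_iff_isUnit,
      show (M.mulVec) = M.mulVecLin from rfl, injective_iff_map_eq_zero]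
    intro x hx
    have hoff : ∀ i, i ≠ l → x i = 0 := by
      intro i hi
      have := congrFun hx (Equiv.swap l 2 i)
      simpa [M, Matrix.mulVec, dotProduct, Matrix.updateRow_apply, hi, Matrix.one_apply] using this
    have h2 := congrFun hx 2
    rw [Matrix.mulVecLin_apply, hrow, Finset.sum_eq_single l (fun j _ hj => by rw [hoff j hj, zero_mul])
      (fun h => absurd (Finset.mem_univ l) h)] at h2
    funext i
    by_cases hi : i = l
    · subst hi; exact (mul_eq_zero.1 h2).resolve_right hl
    · exact hoff i hi
  let Z' := Z.image M.mulVec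
  have hZ' : ∀ p ∈ Z', p 2 ≠ 0 := by
    intro p hp
    obtain ⟨x, hx, rfl⟩ := Finset.mem_image.1 hp
    rw [hrow]
    intro h
    refine hv (W x) (Finset.mem_insert_of_mem (Finset.mem_image_of_mem W hx)) ?_
    show Fintype.linearCombination k x v = 0
    rw [Fintype.linearCombination_apply]
    simpa [mul_comm] using h
  have hback : ∀ h, subM M (subM M⁻¹ h) = h := fun h => by
    rw [subM_subM, Matrix.nonsing_inv_mul M hM, subM_one]
  have hIiff : ∀ h, InI Z' (subM M⁻¹ h) ↔ InI Z h := fun h => by
    rw [← inI_subM, hback]
  have hf' : (subM M⁻¹ f).IsHomogeneous d := by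
    have := hf.aeval _ (linear_subM M⁻¹)
    rwa [one_mul] at this
  have hf0' : subM M⁻¹ f ≠ 0 := fun h => hf0 (by rw [← hback f, h, map_zero])
  obtain ⟨G, hG1, hG2, hG3⟩ := exists_generators Z' hZ' d _ hf' hf0' ((hIiff f).2 hfI)
  refine ⟨G.image (subM M), Finset.card_image_le.trans hG1, ?_, fun h hh => ?_⟩
  · intro g hg
    obtain ⟨g', hg', rfl⟩ := Finset.mem_image.1 hg
    exact (inI_subM M Z g').2 (hG2 g' hg')
  · have h1 := Ideal.mem_map_of_mem (subM M).toRingHom (hG3 _ ((hIiff h).2 hh))
    rw [Ideal.map_span] at h1
    rw [Finset.coe_image]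
    simpa [hback] using h1

section Descent

variable {K : Type v} [Field K] [Algebra k K]

/-- Apply a `k`-linear form to the coefficients. -/
noncomputable def pushCoeff (φ : K →ₗ[k] k) :
    MvPolynomial (Fin 3) K →ₗ[k] MvPolynomial (Fin 3) k :=
  Finsupp.lsum k (fun m => (monomial m).comp φ) ∘ₗ
    (MvPolynomial.basisMonomials (Fin 3) K).repr.toLinearMap.restrictScalars k

lemma pushCoeff_monomial (φ : K →ₗ[k] k) (m : Fin 3 →₀ ℕ) (c : K) :
    pushCoeff φ (monomial m c) = monomial m (φ c) := by
  have h1 : (monomial m c : MvPolynomial (Fin 3) K) =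
      c • (MvPolynomial.basisMonomials (Fin 3) K) m := by
    rw [coe_basisMonomials, smul_monomial, smul_eq_mul, mul_one]
  simp [pushCoeff, h1, -coe_basisMonomials, Finsupp.smul_single]

lemma pushCoeff_map_mul (φ : K →ₗ[k] k) (a : MvPolynomial (Fin 3) k) (h : MvPolynomial (Fin 3) K) :
    pushCoeff φ (map (algebraMap k K) a * h) = a * pushCoeff φ h := by
  induction a using MvPolynomial.induction_on' with
  | monomial m c =>
    induction h using MvPolynomial.induction_on' with
    | monomial n e =>
      rw [map_monomial, monomial_mul, pushCoeff_monomial, pushCoeff_monomial, monomial_mul,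
        ← Algebra.smul_def, map_smul, smul_eq_mul]
    | add p q hp hq => rw [mul_add, map_add, hp, hq, map_add, mul_add]
  | add p q hp hq => rw [map_add, add_mul, map_add, hp, hq, add_mul]

lemma pushCoeff_smul (φ : K →ₗ[k] k) (s : K) (x : MvPolynomial (Fin 3) K) :
    pushCoeff φ (s • x) = pushCoeff (φ ∘ₗ LinearMap.mulLeft k s) x := by
  induction x using MvPolynomial.induction_on' with
  | monomial m r => rw [smul_monomial, pushCoeff_monomial, pushCoeff_monomial]; rfl
  | add a b ha hb => simp only [smul_add, map_add, ha, hb]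

lemma eval_pushCoeff (φ : K →ₗ[k] k) (p : Fin 3 → k) (h : MvPolynomial (Fin 3) K) :
    eval p (pushCoeff φ h) = φ (eval (fun i => algebraMap k K (p i)) h) := by
  induction h using MvPolynomial.induction_on' with
  | monomial n e =>
    rw [pushCoeff_monomial, eval_monomial, eval_monomial,
      show (n.prod fun i e => algebraMap k K (p i) ^ e) = algebraMap k K (n.prod fun i e => p i ^ e) by
        simp [Finsupp.prod, map_prod],
      mul_comm e, ← Algebra.smul_def, map_smul, smul_eq_mul, mul_comm]
  | add a b ha hb => simp only [map_add, ha, hb]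

lemma pushCoeff_component (φ : K →ₗ[k] k) (j : ℕ) (h : MvPolynomial (Fin 3) K) :
    homogeneousComponent j (pushCoeff φ h) = pushCoeff φ (homogeneousComponent j h) := by
  induction h using MvPolynomial.induction_on' with
  | monomial n e =>
    rw [pushCoeff_monomial,
      homogeneousComponent_of_mem ((mem_homogeneousSubmodule n.degree _).2
        (isHomogeneous_monomial _ rfl)),
      homogeneousComponent_of_mem ((mem_homogeneousSubmodule n.degree _).2
        (isHomogeneous_monomial _ rfl))]
    split_ifs
    · rw [pushCoeff_monomial]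
    · rw [map_zero]
  | add a b ha hb => simp only [map_add, ha, hb]

lemma component_mul {F : Type*} [Field F] {h : MvPolynomial (Fin 3) F} {e : ℕ}
    (hh : h.IsHomogeneous e) (a : MvPolynomial (Fin 3) F) (n : ℕ) :
    homogeneousComponent n (a * h) =
      if e ≤ n then homogeneousComponent (n - e) a * h else 0 := by
  conv_lhs => rw [← sum_homogeneousComponent a]
  rw [Finset.sum_mul, map_sum]
  have h1 : ∀ i, homogeneousComponent n (homogeneousComponent i a * h) =
      if n = i + e then homogeneousComponent i a * h else 0 := fun i =>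
    homogeneousComponent_of_mem ((mem_homogeneousSubmodule _ _).2
      ((homogeneousComponent_isHomogeneous (φ := a) (n := i)).mul hh))
  simp only [h1]
  by_cases hle : e ≤ n
  · simp only [if_pos hle, show ∀ i, (n = i + e) = (n - e = i) from fun i => propext (by omega),
      Finset.sum_ite_eq, Finset.mem_range]
    split_ifs with h'
    · rfl
    · rw [homogeneousComponent_eq_zero (n - e) a (by omega), zero_mul]
  · rw [if_neg hle]
    exact Finset.sum_eq_zero fun i _ => if_neg (by omega)

theorem spanFinrank_le (Z : Finset (Fin 3 → k)) (hZ : ∀ p ∈ Z, p ≠ 0)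
    (I : Ideal (MvPolynomial (Fin 3) k)) (hI : ∀ f, f ∈ I ↔ InI Z f) (d : ℕ)
    (f : MvPolynomial (Fin 3) k) (hfI : f ∈ I) (hf : f.IsHomogeneous d) (hf0 : f ≠ 0) :
    Submodule.spanFinrank I ≤ d + 1 := by
  classical
  -- a minimal family of homogeneous generators
  obtain ⟨T, hT⟩ := (inferInstance : IsNoetherian (MvPolynomial (Fin 3) k) (MvPolynomial (Fin 3) k)).noetherian I
  let H₀ : Finset (MvPolynomial (Fin 3) k) :=
    T.biUnion fun t => (Finset.range (t.totalDegree + 1)).image fun n => homogeneousComponent n t
  let good : Finset (MvPolynomial (Fin 3) k) → Prop := fun H =>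
    (∀ h ∈ H, h ∈ I ∧ ∃ e, h.IsHomogeneous e) ∧ I ≤ Ideal.span (H : Set (MvPolynomial (Fin 3) k))
  have hgood₀ : good H₀ := by
    refine ⟨fun h hh => ?_, ?_⟩
    · obtain ⟨t, ht, hh⟩ := Finset.mem_biUnion.1 hh
      obtain ⟨n, -, rfl⟩ := Finset.mem_image.1 hh
      exact ⟨(hI _).2 (inI_component ((hI t).1 (hT ▸ Ideal.subset_span ht)) n),
        n, homogeneousComponent_isHomogeneous n t⟩
    · rw [← hT]
      refine Ideal.span_le.2 fun t ht => ?_
      rw [← sum_homogeneousComponent t]
      refine Ideal.sum_mem _ fun n hn => Ideal.subset_span ?_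
      exact Finset.mem_biUnion.2 ⟨t, ht, Finset.mem_image_of_mem _ hn⟩
  obtain ⟨H, hH, hmin⟩ := exists_minimal_of_wellFoundedLT good ⟨H₀, hgood₀⟩
  have hne : ∀ h₀ ∈ H, h₀ ∉ Ideal.span ((H.erase h₀ : Finset _) : Set (MvPolynomial (Fin 3) k)) := by
    intro h₀ h₀H hmem
    have hg : good (H.erase h₀) := by
      refine ⟨fun h hh => hH.1 h (Finset.mem_of_mem_erase hh), hH.2.trans (Ideal.span_le.2 fun h hh => ?_)⟩
      by_cases he : h = h₀
      · exact he ▸ hmem
      · exact Ideal.subset_span (Finset.mem_erase.2 ⟨he, hh⟩)
    exact (Finset.mem_erase.1 ((hmin hg (Finset.erase_subset _ _)) h₀H)).1 rfl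
  have hspan : I = Ideal.span (H : Set (MvPolynomial (Fin 3) k)) :=
    le_antisymm hH.2 (Ideal.span_le.2 fun h hh => (hH.1 h hh).1)
  have hbound : H.card ≤ d + 1 := by
    -- pass to an infinite field
    let L := AlgebraicClosure k
    let ι := algebraMap k L
    let ZL : Finset (Fin 3 → L) := Z.image fun p i => ι (p i)
    have hIL : ∀ h, InI Z h → InI ZL (map ι h) := by
      intro h hh
      simp only [InI, ZL, Finset.forall_mem_image]
      intro p hp j
      have e : homogeneousComponent j (map ι h) = map ι (homogeneousComponent j h) := by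
        refine MvPolynomial.ext _ _ fun m => ?_
        rw [coeff_homogeneousComponent, coeff_map, coeff_map, coeff_homogeneousComponent]
        split_ifs <;> simp
      rw [e, eval_map]
      have := eval₂_comp ι p (homogeneousComponent j h)
      rw [hh p hp j, map_zero] at this
      exact this.symm
    obtain ⟨G, hG1, hG2, hG3⟩ := exists_generators_of_infinite (k := L) ZL (by
      simp only [ZL, Finset.forall_mem_image]
      intro p hp h
      exact hZ p hp (funext fun i => (map_eq_zero ι).1 (congrFun h i)))
      d (map ι f) (hf.map ι) (fun h => hf0 (map_injective ι ι.injective (h.trans (map_zero _).symm)))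
      (hIL f ((hI f).1 hfI))
    -- the products of a variable and an element of the extended ideal
    let mI : Submodule L (MvPolynomial (Fin 3) L) :=
      Submodule.span L {x | ∃ i y, InI ZL y ∧ x = X i * y}
    let Q := MvPolynomial (Fin 3) L ⧸ mI
    let w : H → Q := fun h => Submodule.Quotient.mk (map ι (h : MvPolynomial (Fin 3) k))
    have hwspan : Set.range w ≤ (Submodule.span L
        ((G.image fun g => (Submodule.Quotient.mk g : Q) : Finset Q) : Set Q) : Set Q) := by
      rintro _ ⟨h, rfl⟩
      obtain ⟨c, hc⟩ := mem_ideal_span_finset_iff_aux (hG3 _ (hIL _ ((hI _).1 (hH.1 _ h.2).1)))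
      show mI.mkQ (map ι (h : MvPolynomial (Fin 3) k)) ∈ _
      rw [← hc, map_sum]
      refine Submodule.sum_mem _ fun g hg => ?_
      have hsplit : c g * g = coeff 0 (c g) • g + (c g - C (coeff 0 (c g))) * g := by
        rw [sub_mul, ← C_mul']; ring
      rw [hsplit, map_add, map_smul]
      refine Submodule.add_mem _ (Submodule.smul_mem _ _ (Submodule.subset_span ?_)) ?_
      · simp only [Finset.coe_image, Set.mem_image, Finset.mem_coe]
        exact ⟨g, hg, rfl⟩
      · have h0 : (c g - C (coeff 0 (c g))) * g ∈ mI := by
          have hv : c g - C (coeff 0 (c g)) ∈ idealOfVars (Fin 3) L := by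
            rw [← pow_one (idealOfVars (Fin 3) L), mem_pow_idealOfVars_iff']
            intro m hm
            rw [Nat.lt_one_iff, Finsupp.degree_eq_zero_iff] at hm
            subst hm; simp
          obtain ⟨a, ha⟩ := Ideal.mem_span_range_iff_exists_fun.1 hv
          rw [← ha, Finset.sum_mul]
          refine Submodule.sum_mem _ fun i _ => Submodule.subset_span ⟨i, a i * g, ?_, by ring⟩
          intro p hp j
          have hG2' := hG2 g hg p hp
          have e : homogeneousComponent j (a i * g) = ∑ n ∈ Finset.range (g.totalDegree + 1),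
              if n ≤ j then homogeneousComponent (j - n) (a i) * homogeneousComponent n g else 0 := by
            conv_lhs => rw [← sum_homogeneousComponent g]
            rw [Finset.mul_sum, map_sum]
            exact Finset.sum_congr rfl fun n _ =>
              component_mul (homogeneousComponent_isHomogeneous (φ := g) (n := n)) _ _
          rw [e, map_sum]
          refine Finset.sum_eq_zero fun n _ => ?_
          split_ifs
          · rw [map_mul, hG2' n, mul_zero]
          · exact map_zero _
        show mI.mkQ _ ∈ _
        rw [Submodule.mkQ_apply, (Submodule.Quotient.mk_eq_zero mI).2 h0]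
        exact Submodule.zero_mem _
    have hli : LinearIndependent L w := by
      rw [Fintype.linearIndependent_iff]
      intro c hc h₀
      by_contra hne0
      obtain ⟨φ₀, hφ₀⟩ := (LinearMap.toSpanSingleton k L (c h₀)).exists_leftInverse_of_injective
        (LinearMap.ker_toSpanSingleton k hne0)
      have hφc : φ₀ (c h₀) = 1 := by simpa using LinearMap.congr_fun hφ₀ 1
      have hsum : ∑ h : H, c h • map ι (h : MvPolynomial (Fin 3) k) ∈ mI := by
        rw [← Submodule.Quotient.mk_eq_zero]
        show mI.mkQ _ = 0
        rw [map_sum, ← hc]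
        exact Finset.sum_congr rfl fun h _ => map_smul _ _ _
      -- push down to `k`
      obtain ⟨e₀, he₀⟩ := (hH.1 _ h₀.2).2
      have hpush : ∀ x ∈ mI, ∀ φ : L →ₗ[k] k, homogeneousComponent e₀ (pushCoeff φ x) ∈
          Ideal.span ((H.erase (h₀ : MvPolynomial (Fin 3) k) : Finset _) : Set (MvPolynomial (Fin 3) k)) := by
        intro x hx
        induction hx using Submodule.span_induction with
        | mem x hx =>
          intro φ
          obtain ⟨i, y, hy, rfl⟩ := hx
          rw [show (X i : MvPolynomial (Fin 3) L) = map ι (X i) from (map_X ι i).symm,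
            pushCoeff_map_mul]
          have hyI : pushCoeff φ y ∈ I := (hI _).2 fun p hp j => by
            rw [pushCoeff_component, eval_pushCoeff,
              hy (fun i => ι (p i)) (Finset.mem_image_of_mem _ hp) j, map_zero]
          obtain ⟨a, ha⟩ := mem_ideal_span_finset_iff_aux (hspan.le hyI)
          rw [← ha, Finset.mul_sum, map_sum]
          refine Ideal.sum_mem _ fun h hh => ?_
          obtain ⟨e, he⟩ := (hH.1 h hh).2
          rw [← mul_assoc, component_mul he]
          split_ifs with hle
          · by_cases heq : h = (h₀ : MvPolynomial (Fin 3) k)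
            · by_cases hh0 : h = 0
              · simp [hh0]
              have hee : e = e₀ := he.inj_right (heq ▸ he₀) hh0
              rw [hee, Nat.sub_self, homogeneousComponent_zero]
              simp [← constantCoeff_eq]
            · exact Ideal.mul_mem_left _ _ (Ideal.subset_span (Finset.mem_erase.2 ⟨heq, hh⟩))
          · exact Submodule.zero_mem _
        | zero => intro φ; rw [map_zero, map_zero]; exact Submodule.zero_mem _
        | add x y _ _ hx hy => intro φ; rw [map_add, map_add]; exact Ideal.add_mem _ (hx φ) (hy φ)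
        | smul s x _ hx =>
          intro φ
          rw [pushCoeff_smul]; exact hx _
      have h1 := hpush _ hsum φ₀
      rw [map_sum, map_sum] at h1
      have hterm : ∀ h : H, pushCoeff φ₀ (c h • map ι (h : MvPolynomial (Fin 3) k)) =
          C (φ₀ (c h)) * (h : MvPolynomial (Fin 3) k) := fun h => by
        rw [← C_mul', mul_comm, pushCoeff_map_mul, ← monomial_zero', pushCoeff_monomial,
          monomial_zero', mul_comm]
      simp only [hterm] at h1
      rw [← Finset.add_sum_erase _ _ (Finset.mem_univ h₀)] at h1
      apply hne _ h₀.2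
      have h2 := (Ideal.add_mem_iff_left _ ?_).1 h1
      · rwa [hφc, C_1, one_mul, homogeneousComponent_eq_self he₀] at h2
      · refine Ideal.sum_mem _ fun h hh => ?_
        rw [homogeneousComponent_C_mul]
        refine Ideal.mul_mem_left _ _ ?_
        obtain ⟨e, he⟩ := (hH.1 _ h.2).2
        rw [homogeneousComponent_of_mem ((mem_homogeneousSubmodule e _).2 he)]
        split_ifs
        · exact Ideal.subset_span (Finset.mem_erase.2
            ⟨fun hc => (Finset.mem_erase.1 hh).1 (Subtype.ext hc), h.2⟩)
        · exact Submodule.zero_mem _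
    have h1 := linearIndependent_le_span' w hli
      ((G.image fun g => (Submodule.Quotient.mk g : Q) : Finset Q) : Set Q) hwspan
    rw [Cardinal.mk_fintype, Fintype.card_coe, Nat.cast_le] at h1
    simp only [Finset.coe_sort_coe, Fintype.card_coe] at h1
    exact h1.trans (Finset.card_image_le.trans hG1)
  rw [hspan]
  refine (Submodule.spanFinrank_span_le_ncard_of_finite H.finite_toSet).trans ?_
  rwa [Set.ncard_coe_finset]
where
  mem_ideal_span_finset_iff_aux {R : Type _} [CommRing R] {s : Finset R} {x : R}
      (hx : x ∈ Ideal.span (s : Set R)) : ∃ c : R → R, ∑ g ∈ s, c g * g = x := by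
    obtain ⟨c, -, hc⟩ := Submodule.mem_span_finset.1 hx
    exact ⟨c, hc⟩

end Descent

end Groth.Agent.PlanePoints
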